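import Groth.Agent.LocalDim.Affine
import Groth.Prelude.Def_CurvBase

/-!
# Local dimension and the local ring at a point
-/

universe u

open AlgebraicGeometry CategoryTheory

namespace Groth.Agent.LocalDim

attribute [local instance] Curv2.resAlgebra

theorem exists_localDim_eq_stalk (k : Type u) [Field k] (X : Scheme.{u}) [X.Over (Spec (CommRingCat.of k))]
    [LocallyOfFiniteType (X ↘ (Spec (CommRingCat.of k)))] (x : X) :
    ∃ a : ℕ, Algebra.trdeg k (X.residueField x) = a ∧
      FlatMor.localDim X x = ringKrullDim (X.presheaf.stalk x) + a ∧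
      (IsClosed ({x} : Set X) → a = 0) := by
  let f := X ↘ (Spec (CommRingCat.of k))
  obtain ⟨U, hU, hx, -⟩ := exists_isAffineOpen_mem_and_subset (X := X) (x := x) (U := ⊤) trivial
  let φ : CommRingCat.of k ⟶ Γ(X, U) :=
    (Scheme.ΓSpecIso (CommRingCat.of k)).inv ≫ f.appLE ⊤ U (by simp)
  let ev := X.evaluation U x hx
  algebraize [φ.hom]
  let : Algebra Γ(X, U) (X.residueField x) := ev.hom.toAlgebra
  have : IsScalarTower k Γ(X, U) (X.residueField x) := by
    refine IsScalarTower.of_algebraMap_eq' ?_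
    show Curv2.resMap k X x = ev.hom.comp φ.hom
    simp only [Curv2.resMap, Curv2.stalkMap, Coh.toGlobal, ev, φ, Scheme.evaluation, CommRingCat.hom_comp,
      Scheme.Hom.appLE]
    ext c
    simp only [RingHom.comp_apply]
    erw [TopCat.Presheaf.germ_res_apply]
    rfl
  have : Algebra.FiniteType k Γ(X, U) := by
    refine (RingHom.finiteType_algebraMap).mp ?_
    exact (f.finiteType_appLE (isAffineOpen_top _) hU (by simp)).comp
      (RingHom.FiniteType.of_surjective _
        (Scheme.ΓSpecIso (CommRingCat.of k)).commRingCatIsoToRingEquiv.symm.surjective)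
  let p := (hU.primeIdealOf ⟨x, hx⟩).asIdeal
  let := (X.presheaf.germ U x hx).hom.toAlgebra
  have := hU.isLocalization_stalk ⟨x, hx⟩
  have hker : RingHom.ker ev.hom = p := by
    ext a
    rw [RingHom.mem_ker]
    rw [show ev.hom a = X.residue x ((X.presheaf.germ U x hx).hom a) from rfl]
    exact (IsLocalRing.residue_eq_zero_iff _).trans
      (IsLocalization.AtPrime.to_map_mem_maximal_iff (X.presheaf.stalk x) p a)
  let ψ : Γ(X, U) ⧸ p →ₐ[k] X.residueField x :=
    Ideal.Quotient.liftₐ p (IsScalarTower.toAlgHom k Γ(X, U) (X.residueField x)) (fun a ha => hker.ge ha)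
  let : Algebra (Γ(X, U) ⧸ p) (X.residueField x) := ψ.toRingHom.toAlgebra
  have : IsScalarTower k (Γ(X, U) ⧸ p) (X.residueField x) :=
    IsScalarTower.of_algebraMap_eq fun c => (ψ.commutes c).symm
  have : FaithfulSMul (Γ(X, U) ⧸ p) (X.residueField x) := (faithfulSMul_iff_algebraMap_injective _ _).mpr
    (RingHom.lift_injective_of_ker_le_ideal p (fun a ha => hker.ge ha) hker.le)
  have : IsFractionRing (Γ(X, U) ⧸ p) (X.residueField x) := by
    refine IsFractionRing.of_field _ _ fun z => ?_
    obtain ⟨a, b, hb, h⟩ := DimTrdeg.exists_evaluation_fraction hU x hx z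
    refine ⟨Ideal.Quotient.mk p a, Ideal.Quotient.mk p b, ?_⟩
    exact ((div_eq_iff hb).mpr h.symm).symm
  obtain ⟨a, ha, ha'⟩ := DimTrdeg.exists_trdeg_eq_ringKrullDim k (Γ(X, U) ⧸ p)
  refine ⟨a, (DimTrdeg.trdeg_fractionRing k (Γ(X, U) ⧸ p) (X.residueField x)).trans ha, ?_, fun hcl => ?_⟩
  · rw [IsLocalization.AtPrime.ringKrullDim_eq_height p (X.presheaf.stalk x), ← ha', ← localDim_eq k p]
    exact ((localDim_openEmbedding hU.fromSpec.isOpenEmbedding _).trans
      (congrArg (FlatMor.localDim X) (hU.fromSpec_primeIdealOf ⟨x, hx⟩))).symm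
  · have hc : IsClosed ({hU.primeIdealOf ⟨x, hx⟩} : Set (PrimeSpectrum Γ(X, U))) := by
      have h := hcl.preimage hU.fromSpec.continuous
      have e : hU.fromSpec ⁻¹' {x} = {hU.primeIdealOf ⟨x, hx⟩} := by
        ext z
        simp only [Set.mem_preimage, Set.mem_singleton_iff]
        exact ⟨fun h => hU.fromSpec.isOpenEmbedding.injective (h.trans (hU.fromSpec_primeIdealOf ⟨x, hx⟩).symm),
          fun h => h ▸ hU.fromSpec_primeIdealOf ⟨x, hx⟩⟩
      exact e ▸ h
    have hmax : p.IsMaximal := (PrimeSpectrum.isClosed_singleton_iff_isMaximal _).mp hc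
    have h0 := ringKrullDim_eq_zero_of_isField ((Ideal.Quotient.maximal_ideal_iff_isField_quotient p).mp hmax)
    rw [ha'] at h0
    exact_mod_cast h0

end Groth.Agent.LocalDim
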