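import Groth.Agent.LocalDim.Point
import Groth.Agent.FibDim.MaxPoints

universe u

open AlgebraicGeometry CategoryTheory

namespace Groth.Agent.LocalDim

attribute [local instance] Curv2.resAlgebra

theorem SpecMap_resMap (k : Type u) [Field k] (X : Scheme.{u}) [X.Over (Spec (CommRingCat.of k))] (x : X) :
    Spec.map (CommRingCat.ofHom (Curv2.resMap k X x)) = X.fromSpecResidueField x ≫ (X ↘ Spec (CommRingCat.of k)) := by
  refine AlgebraicGeometry.ext_of_isAffine ?_
  rw [Scheme.Hom.comp_appTop, Scheme.fromSpecResidueField, Scheme.Hom.comp_appTop, Scheme.fromSpecStalk_appTop]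
  rw [← Iso.cancel_iso_inv_left (Scheme.ΓSpecIso (CommRingCat.of k))]
  simp only [Category.assoc]
  rw [Subsingleton.elim (homOfLE _).op (𝟙 (Opposite.op (⊤ : (Spec (X.presheaf.stalk x)).Opens)))]
  erw [CategoryTheory.Functor.map_id, Category.id_comp]
  rw [← Scheme.ΓSpecIso_inv_naturality (X.residue x), ← Scheme.ΓSpecIso_inv_naturality]
  rfl

/-- The local dimension is the dimension of the local ring plus that of the closure. -/
theorem localDim_eq_stalk_add_closure {k : Type u} [Field k] {X : Scheme.{u}} (f : X ⟶ Spec (CommRingCat.of k))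
    [LocallyOfFiniteType f] (x : X) :
    FlatMor.localDim X x = ringKrullDim (X.presheaf.stalk x) + topologicalKrullDim (closure ({x} : Set X)) := by
  letI : X.Over (Spec (CommRingCat.of k)) := ⟨f⟩
  haveI : LocallyOfFiniteType (X ↘ Spec (CommRingCat.of k)) := ‹LocallyOfFiniteType f›
  obtain ⟨a, ha, h, -⟩ := exists_localDim_eq_stalk k X x
  obtain ⟨n, hn, hn'⟩ := FibDim.exists_trdeg f x (CommRingCat.ofHom (Curv2.resMap k X x)) (SpecMap_resMap k X x)
  have : a = n := Nat.cast_inj.mp (ha.symm.trans hn)
  rw [h, hn', this]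

end Groth.Agent.LocalDim
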