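import Groth.Agent.LocalDim.Basic
import Groth.Agent.GeomUnib.DimFormula

/-!
# Local dimension of the spectrum of an algebra of finite type over a field
-/

universe u

open AlgebraicGeometry CategoryTheory

namespace Groth.Agent.LocalDim

theorem height_add_dim_quot_le {R : Type u} [CommRing R] (q : Ideal R) [q.IsPrime] :
    (q.height : WithBot ℕ∞) + ringKrullDim (R ⧸ q) ≤ ringKrullDim R := by
  let p : PrimeSpectrum R := ⟨q, inferInstance⟩
  haveI : Nonempty (PrimeSpectrum R) := ⟨p⟩
  have h1 : ringKrullDim (R ⧸ q) = (Order.coheight p : WithBot ℕ∞) := by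
    rw [ringKrullDim_quotient, Order.coheight_eq_krullDim_Ici]
    refine Order.krullDim_eq_of_orderIso (OrderIso.setCongr _ _ ?_)
    ext r
    exact PrimeSpectrum.mem_zeroLocus _ _
  rw [h1, PrimeSpectrum.height_eq_orderHeight p, ← WithBot.coe_add]
  show _ ≤ Order.krullDim (PrimeSpectrum R)
  rw [Order.krullDim_eq_iSup_height_add_coheight_of_nonempty]
  exact WithBot.coe_le_coe.mpr (le_iSup (fun r => Order.height r + Order.coheight r) p)

variable (k : Type u) {S : Type u} [Field k] [CommRing S] [Algebra k S] [Algebra.FiniteType k S]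

include k in
theorem exists_localDim_spec (p : PrimeSpectrum S) :
    ∃ n : ℕ, FlatMor.localDim (PrimeSpectrum S) p = n ∧
      (∃ P : PrimeSpectrum S, P ≤ p ∧ P.asIdeal ∈ minimalPrimes S ∧ ringKrullDim (S ⧸ P.asIdeal) = n) ∧
      ∀ P : PrimeSpectrum S, P ≤ p → ringKrullDim (S ⧸ P.asIdeal) ≤ n := by
  let f : Spec (CommRingCat.of S) ⟶ Spec (CommRingCat.of k) := Spec.map (CommRingCat.ofHom (algebraMap k S))
  haveI : LocallyOfFiniteType f :=
    (HasRingHomProperty.Spec_iff (P := @LocallyOfFiniteType)).mpr (RingHom.finiteType_algebraMap.mpr inferInstance)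
  obtain ⟨n, hn, ⟨η, hηp, hη, hηn⟩, hall⟩ := exists_localDim f p
  refine ⟨n, hn, ⟨η, (PrimeSpectrum.le_iff_specializes _ _).mpr hηp, ⟨⟨η.2, bot_le⟩, fun Q hQ hQη => ?_⟩, ?_⟩,
    fun P hP => ?_⟩
  · haveI := hQ.1
    exact (congrArg PrimeSpectrum.asIdeal (hη ⟨Q, hQ.1⟩ ((PrimeSpectrum.le_iff_specializes ⟨Q, hQ.1⟩ η).mp hQη))).ge
  · rw [← DimTrdeg.topologicalKrullDim_closure_inter (CommRingCat.of S) η]; exact hηn
  · rw [← DimTrdeg.topologicalKrullDim_closure_inter (CommRingCat.of S) P]
    exact hall P ((PrimeSpectrum.le_iff_specializes _ _).mp hP)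

include k in
/-- The dimension formula `dim_p Spec S = ht p + dim S/p`. -/
theorem localDim_eq (p : Ideal S) [p.IsPrime] :
    FlatMor.localDim (PrimeSpectrum S) ⟨p, inferInstance⟩ = (p.height : WithBot ℕ∞) + ringKrullDim (S ⧸ p) := by
  haveI : IsNoetherianRing S := Algebra.FiniteType.isNoetherianRing k S
  obtain ⟨n, hn, ⟨P, hPp, -, hPn⟩, hall⟩ := exists_localDim_spec k (⟨p, inferInstance⟩ : PrimeSpectrum S)
  rw [hn]
  obtain ⟨r, -, hr⟩ := DimTrdeg.exists_trdeg_eq_ringKrullDim k (S ⧸ p)
  have hq : ∀ P : PrimeSpectrum S, P.asIdeal ≤ p →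
      ringKrullDim ((S ⧸ P.asIdeal) ⧸ p.map (Ideal.Quotient.mk P.asIdeal)) = r := fun P hP => by
    rw [ringKrullDim_eq_of_ringEquiv (DoubleQuot.quotQuotEquivQuotOfLE hP), hr]
  rw [hr]
  refine le_antisymm ?_ ?_
  · let q := p.map (Ideal.Quotient.mk P.asIdeal)
    haveI : q.IsPrime := Ideal.map_isPrime_of_surjective Ideal.Quotient.mk_surjective
      (by rw [Ideal.mk_ker]; exact hPp)
    obtain ⟨s, r', hs, hr', l, hlast, hle⟩ := GeomUnib.exists_series_of_domain k (S ⧸ P.asIdeal) q
    rw [hPn] at hs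
    rw [show ringKrullDim ((S ⧸ P.asIdeal) ⧸ q) = r from hq P hPp] at hr'
    have hsn : n = s := by exact_mod_cast hs
    have hrr : r = r' := by exact_mod_cast hr'
    have hcomap : q.comap (Ideal.Quotient.mk P.asIdeal) = p :=
      (Ideal.comap_map_of_surjective _ Ideal.Quotient.mk_surjective p).trans
        (sup_eq_left.mpr (by rw [← RingHom.ker_eq_comap_bot, Ideal.mk_ker]; exact hPp))
    let L : LTSeries (PrimeSpectrum S) := l.map (PrimeSpectrum.comap (Ideal.Quotient.mk P.asIdeal))
      (Monotone.strictMono_of_injective (fun a b h => Ideal.comap_mono h)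
        (PrimeSpectrum.comap_injective_of_surjective _ Ideal.Quotient.mk_surjective))
    have hL : (L.length : ℕ∞) ≤ p.height := by
      rw [PrimeSpectrum.height_eq_orderHeight ⟨p, inferInstance⟩]
      refine Order.length_le_height (p := L) (le_of_eq (PrimeSpectrum.ext ?_))
      show (L.last).asIdeal = p
      rw [LTSeries.last_map, PrimeSpectrum.comap_asIdeal, hlast, hcomap]
    calc (n : WithBot ℕ∞) ≤ ((l.length : ℕ∞) : WithBot ℕ∞) + (r : WithBot ℕ∞) := by
          subst hsn hrr; exact_mod_cast hle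
      _ ≤ _ := add_le_add (WithBot.coe_le_coe.mpr hL) le_rfl
  · obtain ⟨l, hl, hlen⟩ := Ideal.exists_ltSeries_length_eq_height p
    have hhead : l.head.asIdeal ≤ p := by
      rw [← show l.last.asIdeal = p by rw [hl]]
      exact l.head_le_last
    let π := Ideal.Quotient.mk l.head.asIdeal
    let q := p.map π
    haveI : q.IsPrime := Ideal.map_isPrime_of_surjective Ideal.Quotient.mk_surjective
      (by rw [Ideal.mk_ker]; exact hhead)
    have hlq : p.height ≤ q.height := by
      rw [← hlen, PrimeSpectrum.height_eq_orderHeight ⟨q, inferInstance⟩]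
      have hker : ∀ i, l.head.asIdeal ≤ (l i).asIdeal := fun i => l.head_le i
      have hpr : ∀ i, ((l i).asIdeal.map π).IsPrime := fun i =>
        Ideal.map_isPrime_of_surjective Ideal.Quotient.mk_surjective (by rw [Ideal.mk_ker]; exact hker i)
      have hcm : ∀ i, ((l i).asIdeal.map π).comap π = (l i).asIdeal := fun i =>
        (Ideal.comap_map_of_surjective _ Ideal.Quotient.mk_surjective _).trans
          (sup_eq_left.mpr (by rw [← RingHom.ker_eq_comap_bot, Ideal.mk_ker]; exact hker i))
      let L : LTSeries (PrimeSpectrum (S ⧸ l.head.asIdeal)) :=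
        { length := l.length
          toFun := fun i => ⟨(l i).asIdeal.map π, hpr i⟩
          step := fun i => by
            refine lt_of_le_of_ne (Ideal.map_mono (l.step i).le) fun he => (l.step i).ne (PrimeSpectrum.ext ?_)
            rw [← hcm i.castSucc, ← hcm i.succ]
            exact congrArg (Ideal.comap π) he }
      refine Order.length_le_height (p := L) (le_of_eq (PrimeSpectrum.ext ?_))
      show (l.last).asIdeal.map π = q
      rw [hl]
    calc (p.height : WithBot ℕ∞) + r ≤ (q.height : WithBot ℕ∞) + ringKrullDim ((S ⧸ l.head.asIdeal) ⧸ q) := by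
          rw [hq l.head hhead]; exact add_le_add (WithBot.coe_le_coe.mpr hlq) le_rfl
      _ ≤ ringKrullDim (S ⧸ l.head.asIdeal) := height_add_dim_quot_le q
      _ ≤ n := hall l.head hhead

/-- The transcendence degree of the residue field is the dimension of the quotient. -/
theorem ringKrullDim_quotient_eq_trdeg (p : Ideal S) [p.IsPrime] (r : ℕ)
    (hr : Algebra.trdeg k p.ResidueField = r) : ringKrullDim (S ⧸ p) = r := by
  obtain ⟨s, hs, hs'⟩ := DimTrdeg.exists_trdeg_eq_ringKrullDim k (S ⧸ p)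
  rw [DimTrdeg.trdeg_fractionRing k (S ⧸ p) p.ResidueField, hs] at hr
  rw [hs', Nat.cast_inj.mp hr]

end Groth.Agent.LocalDim
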