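import Groth.Agent.FibreDim.Local
import Groth.Agent.FibDim.MaxPoints
import Groth.Agent.DimTrdeg.Scheme
import Groth.Prelude.Def_Flat
import Mathlib

/-!
# Local dimension of schemes locally of finite type over a field
-/

universe u v

open AlgebraicGeometry CategoryTheory TopologicalSpace Topology

namespace Groth.Agent.LocalDim

/-- Local dimension is local. -/
theorem localDim_openEmbedding {T : Type u} [TopologicalSpace T] {T' : Type v} [TopologicalSpace T'] {g : T → T'}
    (hg : IsOpenEmbedding g) (x : T) : FlatMor.localDim T x = FlatMor.localDim T' (g x) := by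
  refine le_antisymm (FibreDim.le_localDim fun O hO hx => ?_) (FibreDim.le_localDim fun O hO hx => ?_)
  · refine (FibreDim.localDim_le (hO.preimage hg.continuous) hx).trans ?_
    rw [← FibreDim.dim_image hg.toIsEmbedding]
    exact FibreDim.dim_mono (Set.image_preimage_subset g O)
  · refine (FibreDim.localDim_le (hg.isOpenMap O hO) ⟨x, hx, rfl⟩).trans_eq ?_
    exact FibreDim.dim_image hg.toIsEmbedding O

variable {k : Type u} [Field k]

/-- Over a field the local dimension is the largest dimension of a component through the point. -/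
theorem exists_localDim {X : Scheme.{u}} (f : X ⟶ Spec (CommRingCat.of k)) [LocallyOfFiniteType f] (x : X) :
    ∃ n : ℕ, FlatMor.localDim X x = n ∧
      (∃ η : X, η ⤳ x ∧ FibDim.IsMax' η ∧ topologicalKrullDim (closure ({η} : Set X)) = n) ∧
      ∀ w : X, w ⤳ x → topologicalKrullDim (closure ({w} : Set X)) ≤ n := by
  have hsub : Subsingleton ↥(Spec (CommRingCat.of k)) := inferInstanceAs (Subsingleton (PrimeSpectrum k))
  have huniv : ∀ w : X, f.base ⁻¹' {f.base w} = Set.univ := fun w =>
    Set.eq_univ_of_forall fun z => Subsingleton.elim (f.base z) (f.base w)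
  have hfd : ∀ w : X, FibreDim.fdim f w = topologicalKrullDim (closure ({w} : Set X)) := fun w => by
    rw [FibreDim.fdim, huniv w, Set.inter_univ]
  obtain ⟨n, hn, ⟨w, -, hwx, hw⟩, hall⟩ := FibreDim.exists_fibreDimAt_eq f x
  have hloc : FlatMor.localDim X x = n := by
    rw [← hn, FibreDim.fibreDimAt_eq]
    have ho : IsOpen (((Set.univ : Set X) ∩ f.base ⁻¹' {f.base x})) := by
      rw [huniv x, Set.inter_univ]; exact isOpen_univ
    exact (localDim_openEmbedding ho.isOpenEmbedding_subtypeVal ⟨x, trivial, rfl⟩).symm
  have hle : ∀ w : X, w ⤳ x → topologicalKrullDim (closure ({w} : Set X)) ≤ n := fun w hw => by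
    rw [← hfd]; exact hall w (Subsingleton.elim _ _) hw
  obtain ⟨η, hηw, hη⟩ := FibDim.exists_isMax'_specializes w
  refine ⟨n, hloc, ⟨η, hηw.trans hwx, hη, le_antisymm (hle η (hηw.trans hwx)) ?_⟩, hle⟩
  rw [← hw, hfd]
  exact FibreDim.dim_mono (closure_minimal (Set.singleton_subset_iff.2 hηw.mem_closure) isClosed_closure)

end Groth.Agent.LocalDim
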